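import Cfsg.Agent.H856.JM.An

/-!
# S5580, Part III: the row `A6`, abstract lemmas (helper265)
-/

set_option autoImplicit false

open Cfsg

namespace Cfsg.Agent.H265.JM.Six

open Cfsg.Agent.H860.JM Cfsg.Agent.H856.JM

/-- the group `Spor.J4` -/
local notation "𝒢" => Cfsg.Spor.J4

variable {M S : Subgroup 𝒢}

/-- (L1) the normalizer of the socle is contained in `M` -/
theorem mem_of_norm (h : NL M S) {g : 𝒢} (hg : g ∈ Subgroup.normalizer (S : Set 𝒢)) : g ∈ M := by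
  have hs : IsSimpleGroup 𝒢 := Cfsg.Agent.S1703.result.1
  have hle : M ≤ Subgroup.normalizer (S : Set 𝒢) := h.norm
  by_cases heq : M = Subgroup.normalizer (S : Set 𝒢)
  · rw [heq]; exact hg
  · exfalso
    have h1 : Subgroup.normalizer (S : Set 𝒢) = ⊤ := h.coatom.2 _ (lt_of_le_of_ne hle heq)
    have h2 : S.Normal := Subgroup.normalizer_eq_top_iff.1 h1
    rcases h2.eq_bot_or_eq_top with h3 | h3
    · apply h.nab
      rw [h3]
      infer_instance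
    · exact h.coatom.1 (top_le_iff.1 (h3 ▸ h.le))

/-- a group of order dividing 4 is abelian -/
theorem comm_of_card {Q : Type*} [Group Q] (h : Nat.card Q ∣ 4) (a b : Q) : a * b = b * a := by
  have : Finite Q := Nat.finite_of_card_ne_zero (fun h0 => by rw [h0] at h; exact absurd h (by norm_num))
  have : Fact (Nat.Prime 2) := ⟨Nat.prime_two⟩
  obtain ⟨k, hk, hk'⟩ := (Nat.dvd_prime_pow Nat.prime_two).1 (show Nat.card Q ∣ 2 ^ 2 from h)
  interval_cases k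
  · have h1 : Subsingleton Q := (Nat.card_eq_one_iff_unique.1 hk').1
    exact Subsingleton.elim _ _
  · have h1 : IsCyclic Q := isCyclic_of_prime_card (p := 2) hk'
    exact (IsCyclic.isMulCommutative (α := Q)).is_comm.comm a b
  · exact (IsPGroup.isMulCommutative_of_card_eq_prime_sq (p := 2) hk').is_comm.comm a b

/-- (L2) -/
theorem comm_mem (h : NL M S) (e : Nonempty (S ≃* alternatingGroup (Fin 6))) {τ : 𝒢} (hτ : τ ∈ M) :
    ∀ m ∈ M, m⁻¹ * τ * m * τ⁻¹ ∈ S := by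
  intro m hm
  have hn : (S.subgroupOf M).Normal := by
    refine ⟨fun x hx g => ?_⟩
    rw [Subgroup.mem_subgroupOf] at hx ⊢
    exact (Subgroup.mem_normalizer_iff.1 (h.norm g.2) _).1 hx
  have hc : Nat.card (M ⧸ S.subgroupOf M) ∣ 4 := relIndex_dvd_six h e
  have h1 := comm_of_card hc (QuotientGroup.mk (⟨m, hm⟩ : M)⁻¹ : M ⧸ S.subgroupOf M) (QuotientGroup.mk ⟨τ, hτ⟩)
  have h2 : ((⟨m, hm⟩ : M)⁻¹ * ⟨τ, hτ⟩ * ⟨m, hm⟩ * (⟨τ, hτ⟩ : M)⁻¹) ∈ S.subgroupOf M := by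
    rw [← QuotientGroup.eq_one_iff]
    rw [QuotientGroup.mk_mul, QuotientGroup.mk_mul, QuotientGroup.mk_mul, h1, QuotientGroup.mk_inv, QuotientGroup.mk_inv]
    group
  exact h2

/-! ### the configuration -/

/-- the configuration of `alt6` with its generators -/
structure Cfg (M S : Subgroup 𝒢) (y v a b : 𝒢) : Prop where
  nl : NL M S
  iso : Nonempty (S ≃* alternatingGroup (Fin 6))
  t6 : T6 y v a b
  cl : S = Subgroup.closure {y, v, a, b}
  ex : ∃ N : Subgroup 𝒢, S ≤ N ∧ N ≤ M ∧ (∀ m ∈ M, ∀ m' ∈ M, m ∉ N → m' ∉ N → m * m' ∈ N) ∧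
      (N = S ∨ ∃ τ, Tau τ y [v, a, b] ∧ N = S ⊔ Subgroup.closure {τ})

theorem exists_cfg (h : NL M S) (e : Nonempty (S ≃* alternatingGroup (Fin 6))) : ∃ y v a b, Cfg M S y v a b := by
  obtain ⟨y, v, a, b, h1, h2, h3⟩ := alt6 h e
  exact ⟨y, v, a, b, h, e, h1, h2, h3⟩

theorem cj_ne {g x : 𝒢} (h : x ≠ 1) : g * x * g⁻¹ ≠ 1 := by
  intro h1
  apply h
  have : x = g⁻¹ * (g * x * g⁻¹) * g := by group
  rw [this, h1]; group

theorem t6_cj {y v a b : 𝒢} (h : T6 y v a b) (g : 𝒢) :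
    T6 (g * y * g⁻¹) (g * v * g⁻¹) (g * a * g⁻¹) (g * b * g⁻¹) := by
  have hm : ∀ x z : 𝒢, g * x * g⁻¹ * (g * z * g⁻¹) = g * (x * z) * g⁻¹ := fun x z => by group
  have hi : ∀ x : 𝒢, (g * x * g⁻¹)⁻¹ = g * x⁻¹ * g⁻¹ := fun x => by group
  have h1 : g * 1 * g⁻¹ = (1 : 𝒢) := by group
  have hp : ∀ x : 𝒢, (g * x * g⁻¹) ^ 3 = g * x ^ 3 * g⁻¹ := fun x => by
    rw [pow_succ, pow_two, pow_succ, pow_two, hm, hm]
  exact ⟨⟨⟨cj_ne h.y_ne, by rw [hm, hm, h.cube, h1], cj_ne h.v_ne, by rw [hm, h.sq, h1], by rw [hm, hp, h.br, h1]⟩,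
    cj_ne h.a_ne, by rw [hm, h.asq, h1], by rw [hi, hi, hm, hm, h.ainv], by rw [hm, hp, h.abr, h1]⟩,
    cj_ne h.b_ne, by rw [hm, h.bsq, h1], by rw [hi, hi, hm, hm, h.binv], by rw [hm, hm, h.bv], by rw [hm, hp, h.bbr, h1]⟩

theorem tau_cj {τ y : 𝒢} {l : List 𝒢} (h : Tau τ y l) (g : 𝒢) :
    Tau (g * τ * g⁻¹) (g * y * g⁻¹) (l.map fun x => g * x * g⁻¹) := by
  have hm : ∀ x z : 𝒢, g * x * g⁻¹ * (g * z * g⁻¹) = g * (x * z) * g⁻¹ := fun x z => by group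
  have hi : ∀ x : 𝒢, (g * x * g⁻¹)⁻¹ = g * x⁻¹ * g⁻¹ := fun x => by group
  refine ⟨cj_ne h.ne, by rw [hm, h.sq]; group, by rw [hi, hi, hm, hm, h.inv], ?_⟩
  intro x hx
  obtain ⟨z, hz, rfl⟩ := List.mem_map.1 hx
  rw [hm, hm, h.comm z hz]

theorem closure_cj (g y v a b : 𝒢) : cj g (Subgroup.closure {y, v, a, b}) =
    Subgroup.closure {g * y * g⁻¹, g * v * g⁻¹, g * a * g⁻¹, g * b * g⁻¹} := by
  unfold cj
  rw [MonoidHom.map_closure]
  congr 1
  rw [Set.image_insert_eq, Set.image_insert_eq, Set.image_insert_eq, Set.image_singleton]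
  rfl

theorem cj_sup (g : 𝒢) (A B : Subgroup 𝒢) : cj g (A ⊔ B) = cj g A ⊔ cj g B := Subgroup.map_sup _ _ _

theorem closure_cj1 (g τ : 𝒢) : cj g (Subgroup.closure {τ}) = Subgroup.closure {g * τ * g⁻¹} := by
  unfold cj
  rw [MonoidHom.map_closure, Set.image_singleton]
  rfl

/-- the configuration is invariant under conjugation -/
theorem Cfg.conj {y v a b : 𝒢} (h : Cfg M S y v a b) (g : 𝒢) :
    Cfg (cj g M) (cj g S) (g * y * g⁻¹) (g * v * g⁻¹) (g * a * g⁻¹) (g * b * g⁻¹) := by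
  have hinj : Function.Injective (MulAut.conj g : MulAut 𝒢) := (MulAut.conj g).injective
  have e : S ≃* cj g S := Subgroup.equivMapOfInjective S _ hinj
  refine ⟨nl_cj h.nl g, h.iso.map e.symm.trans, t6_cj h.t6 g, by rw [h.cl, closure_cj], ?_⟩
  obtain ⟨N, h1, h2, h3, h4⟩ := h.ex
  refine ⟨cj g N, Subgroup.map_mono h1, Subgroup.map_mono h2, ?_, ?_⟩
  · rintro _ ⟨m, hm, rfl⟩ _ ⟨m', hm', rfl⟩ k1 k2
    refine ⟨m * m', h3 m hm m' hm' ?_ ?_, map_mul _ _ _⟩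
    · exact fun h5 => k1 ⟨m, h5, rfl⟩
    · exact fun h5 => k2 ⟨m', h5, rfl⟩
  · rcases h4 with h4 | ⟨τ, h4, h5⟩
    · left; rw [h4]
    · right
      refine ⟨g * τ * g⁻¹, tau_cj h4 g, ?_⟩
      rw [h5, cj_sup, closure_cj1]

/-- rows fixed by the generators -/
theorem Cfg.fix {y v a b : 𝒢} (h : Cfg M S y v a b) {w : Row} (h1 : ra w y = w) (h2 : ra w v = w) (h3 : ra w a = w)
    (h4 : ra w b = w) : ∀ s ∈ S, ra w s = w := by
  have hle : S ≤ St w := by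
    rw [h.cl, Subgroup.closure_le]
    intro x hx
    simp only [Set.mem_insert_iff, Set.mem_singleton_iff] at hx
    rcases hx with rfl | rfl | rfl | rfl
    exacts [h1, h2, h3, h4]
  exact fun s hs => hle hs

/-- an element mapping the generators into `S` normalizes `S` -/
theorem Cfg.norm {y v a b : 𝒢} (h : Cfg M S y v a b) {g : 𝒢} (h1 : g * y * g⁻¹ ∈ S) (h2 : g * v * g⁻¹ ∈ S)
    (h3 : g * a * g⁻¹ ∈ S) (h4 : g * b * g⁻¹ ∈ S) : g ∈ Subgroup.normalizer (S : Set 𝒢) := by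
  have hle : cj g S ≤ S := by
    conv_lhs => rw [h.cl, closure_cj]
    rw [Subgroup.closure_le]
    intro x hx
    simp only [Set.mem_insert_iff, Set.mem_singleton_iff] at hx
    rcases hx with rfl | rfl | rfl | rfl
    exacts [h1, h2, h3, h4]
  have hcard : Nat.card (cj g S) = Nat.card S :=
    (Nat.card_congr (Subgroup.equivMapOfInjective S _ (MulAut.conj g).injective).toEquiv).symm
  have heq : cj g S = S := Subgroup.eq_of_le_of_card_ge hle hcard.ge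
  rw [Subgroup.mem_normalizer_iff]
  intro x
  constructor
  · intro hx
    have h5 : g * x * g⁻¹ ∈ cj g S := ⟨x, hx, rfl⟩
    rw [heq] at h5
    exact h5
  · intro hx
    have h5 : g * x * g⁻¹ ∈ cj g S := by rw [heq]; exact hx
    obtain ⟨x', hx', h6⟩ := h5
    have h7 : g * x' * g⁻¹ = g * x * g⁻¹ := h6
    have h8 : x' = x := mul_left_cancel (mul_right_cancel h7)
    rw [← h8]
    exact hx'

theorem Cfg.mem {y v a b : 𝒢} (h : Cfg M S y v a b) : y ∈ S ∧ v ∈ S ∧ a ∈ S ∧ b ∈ S := by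
  rw [h.cl]
  refine ⟨?_, ?_, ?_, ?_⟩ <;> exact Subgroup.subset_closure (by simp)

theorem Cfg.tau_norm {y v a b : 𝒢} (h : Cfg M S y v a b) {τ : 𝒢} (hτ : Tau τ y [v, a, b]) :
    τ ∈ Subgroup.normalizer (S : Set 𝒢) := by
  obtain ⟨m1, m2, m3, m4⟩ := h.mem
  apply h.norm
  · rw [hτ.inv]; exact S.inv_mem m1
  · rw [hτ.comm v (by simp), mul_inv_cancel_right]; exact m2
  · rw [hτ.comm a (by simp), mul_inv_cancel_right]; exact m3
  · rw [hτ.comm b (by simp), mul_inv_cancel_right]; exact m4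

/-- `M` acts on the rows fixed by `S` -/
theorem fixed_move (h : NL M S) {w : Row} (hw : ∀ s ∈ S, ra w s = w) {m : 𝒢} (hm : m ∈ M) :
    ∀ s ∈ S, ra (ra w m) s = ra w m := by
  intro s hs
  have h1 : m * s * m⁻¹ ∈ S := (Subgroup.mem_normalizer_iff.1 (h.norm hm) s).1 hs
  have h2 := hw _ h1
  rw [ra_mul, ra_mul] at h2
  have h3 := ra_inv (g := m⁻¹) (u := ra (ra w m) s) (v := w) h2
  rw [inv_inv] at h3
  exact h3.symm

/-- (L3) for any element `τ` of `M` -/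
theorem fixed_of_comm' (h : NL M S) (e : Nonempty (S ≃* alternatingGroup (Fin 6))) {τ : 𝒢} (hτ : τ ∈ M) {ws u : Row}
    (h0 : ws ≠ 0) (hK : ∀ w : Row, (∀ s ∈ S, ra w s = w) → w + ra w τ = 0 ∨ w + ra w τ = ws)
    (hu : ∀ s ∈ S, ra u s = u) (hws : u + ra u τ = ws) : ∀ m ∈ M, ra ws m = ws := by
  intro m hm
  have h1 : ra u (τ * m) = ra (ra u m) τ := by
    have h2 : τ * m = m * (m⁻¹ * τ * m * τ⁻¹) * τ := by group
    rw [h2, ra_mul, ra_mul, fixed_move h hu hm _ (comm_mem h e hτ m hm)]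
  have h3 : ra ws m = ra u m + ra (ra u m) τ := by
    rw [← hws, ra_add, ← ra_mul, h1]
  rcases hK (ra u m) (fixed_move h hu hm) with h4 | h4
  · exfalso
    apply h0
    rw [← h3] at h4
    exact ra_inj (h4.trans (ra_zero m).symm)
  · rw [h3, h4]

/-- (L3) -/
theorem Cfg.fixed_of_comm {y v a b : 𝒢} (h : Cfg M S y v a b) {τ : 𝒢} (hτ : Tau τ y [v, a, b]) {ws u : Row}
    (h0 : ws ≠ 0) (hK : ∀ w : Row, (∀ s ∈ S, ra w s = w) → w + ra w τ = 0 ∨ w + ra w τ = ws)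
    (hu : ∀ s ∈ S, ra u s = u) (hws : u + ra u τ = ws) : ∀ m ∈ M, ra ws m = ws :=
  fixed_of_comm' h.nl h.iso (mem_of_norm h.nl (h.tau_norm hτ)) h0 hK hu hws

/-- (L4) -/
theorem Cfg.fixed_of_exo {y v a b : 𝒢} (h : Cfg M S y v a b) (hno : ∀ τ, ¬ Tau τ y [v, a, b]) {g : 𝒢}
    (hg : g ∈ Subgroup.normalizer (S : Set 𝒢)) (hgS : g ∉ S) {u : Row} (hu : ∀ s ∈ S, ra u s = u) (hug : ra u g = u) :
    ∀ m ∈ M, ra u m = u := by
  obtain ⟨N, h1, h2, h3, h4⟩ := h.ex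
  have hN : N = S := by
    rcases h4 with h4 | ⟨τ, h4, -⟩
    · exact h4
    · exact absurd h4 (hno τ)
  intro m hm
  by_cases hmS : m ∈ S
  · exact hu m hmS
  · have hgM := mem_of_norm h.nl hg
    have h5 : m * g ∈ S := by
      rw [← hN]
      exact h3 m hm g hgM (by rw [hN]; exact hmS) (by rw [hN]; exact hgS)
    have h6 := hu _ h5
    rw [ra_mul] at h6
    exact ra_inj (h6.trans hug.symm)

end Cfsg.Agent.H265.JM.Six
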