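import Cfsg.Agent.H859.PGLWords

/-!
# Words for the subgroups `L₂(23)` of the fourth Janko group (helper265)

Straight line program computing, from `x, y, y⁻¹, t`: the elements `u`, `h`, `w` of `H859.PGLWords`, an involution `v` of the
subgroup `M₂₄`, `H = h²`, `z = h¹¹` and `k = w v z` (of order 11, commuting with `H`), together with the products
`u w H^i`, `k^j`, `k^j z`; the relations and non-relations are checked in the 112-dimensional representation.
-/

set_option autoImplicit false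

namespace Cfsg.Agent.H265.JM.L223

open Cfsg.Agent.Lib.F2MatGroup Cfsg.Agent.J4.Rep112

/-- the additional words -/
def extra : List (List ℕ) := [
  [7, 9, 7, 9, 7, 8, 7, 9, 7, 9, 7, 9, 7, 9, 7, 8, 7, 9, 7, 9, 7, 8, 7, 9, 7, 8, 7, 8, 7, 9, 7, 8, 7, 8, 7, 8, 7, 8, 7, 9, 7, 8, 7, 8, 7],
  [8, 10, 8, 9, 8, 9, 8, 10, 8, 10, 8, 10, 8, 10, 8, 10, 8, 9, 8, 9, 8, 9, 8, 9, 8, 9, 8, 10, 8, 10, 8, 9, 8, 9, 8, 9, 8, 10, 8, 10, 8, 9, 8, 9, 8, 9, 8, 9, 8, 10, 8],
  [0, 0, 0, 0, 0, 4],
  [3, 2, 0],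
  [8, 4],
  [0, 3],
  [0, 4],
  [0, 5],
  [0, 6],
  [0, 7],
  [0, 8],
  [0, 9],
  [0, 10],
  [0, 11],
  [0, 12],
  [],
  [0, 12],
  [0, 13],
  [0, 14],
  [0, 15],
  [0, 16],
  [0, 17],
  [0, 18],
  [0, 19],
  [0, 20],
  [0, 21],
  [10, 23],
  [10, 24],
  [10, 25],
  [10, 26],
  [10, 27],
  [10, 28],
  [10, 29],
  [10, 30],
  [10, 31],
  [10, 32],
  [10, 33]]

/-- the program -/
def slp : List (List ℕ) := Cfsg.Agent.H859.PGLWords.slp ++ extra

/-- a word for `H` in `x, y, y⁻¹` -/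
def wH : List ℕ := [44, 46, 44, 45, 44, 45, 44, 46, 44, 46, 44, 46, 44, 46, 44, 46, 44, 45, 44, 45, 44, 45, 44, 45, 44, 45, 44, 46, 44, 46, 44, 45, 44, 45, 44, 45, 44, 46, 44, 46, 44, 45, 44, 45, 44, 45, 44, 45, 44, 46, 44]

/-- a word for `v` in `x, y, y⁻¹` -/
def wv : List ℕ := [44, 46, 44, 46, 44, 45, 44, 46, 44, 46, 44, 46, 44, 46, 44, 45, 44, 46, 44, 46, 44, 45, 44, 46, 44, 45, 44, 45, 44, 46, 44, 45, 44, 45, 44, 45, 44, 45, 44, 46, 44, 45, 44, 45, 44]

/-- the index of `k ^ j * z ^ e` -/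
def dix (j e : ℕ) : ℕ := if e = 0 then 21 - j else 10 - j

/-- the relations -/
def rels : List (List ℕ × List ℕ) := [
  ([41], [44, 45]),
  (List.replicate 23 41, []),
  (List.replicate 22 39, []),
  ([39, 41], List.replicate 19 41 ++ [39]),
  ([35], [39, 39]),
  ([37, 37], []),
  ([37, 39, 37, 39], []),
  ([33, 35], [35, 33]),
  (List.replicate 11 33, []),
  ([34, 33, 34, 33], []),
  ([34], List.replicate 11 39),
  ([37, 33], [33, 37]),
  ([36], [37, 33, 34]),
  ([35], wH),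
  ([36], wv)] ++
  ((List.range 11).map fun i => ([32 - i], [41, 37] ++ List.replicate i 35)) ++
  ((List.range 11).map fun j => ([21 - j], List.replicate j 33)) ++
  ((List.range 11).map fun j => ([10 - j], List.replicate j 33 ++ [34]))

/-- the three exceptions -/
def exc (i j e : ℕ) : Bool := i == 0 && ((e == 0 && j == 0) || (e == 1 && (j == 1 || j == 10)))

/-- the exponents -/
def trip : List (ℕ × ℕ × ℕ) :=
  (List.range 11).flatMap fun i => (List.range 11).flatMap fun j => (List.range 2).map fun e => (i, j, e)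

/-- the words to be checked -/
def nl : List (List ℕ × List ℕ) :=
  (trip.filter fun p => !exc p.1 p.2.1 p.2.2).map fun p =>
    ([32 - p.1, dix p.2.1 p.2.2, 32 - p.1, dix p.2.1 p.2.2, 32 - p.1, dix p.2.1 p.2.2], [])

/-- the non-relations -/
def nrels : List (List ℕ × List ℕ) := [([41], []), ([33], []), ([34], []), ([35], [])] ++ nl

theorem check_all : check 112 codes slp rels nrels = true := by decide +kernel

end Cfsg.Agent.H265.JM.L223
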